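import Cfsg.Prelude.Def_LieRecognition
import Cfsg.Agent.Eq.Def_LieRecognition
import Cfsg.Agent.UnitaryThree.Aut

/-!
The Sylow 2-subgroup of `SU(3, q)` is a Suzuki 2-group.
-/

set_option autoImplicit false

namespace CfsgLib.UnitaryThree

open Cfsg CfsgLib.Unitary

variable {F : Type*} [Field F] [Fintype F] {q : ℕ} {d : Data F q}

theorem coB_liftAut (μ : Fˣ) (θ : RingAut F) (g : uni d) :
    coB (liftAut d μ θ g) = (μ : F) ^ (q + 1) * θ (coB g) := rfl

theorem card_center_uni (d : Data F q) : Nat.card (Subgroup.center (uni d)) = q := by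
  refine Eq.trans (Nat.card_eq_of_bijective
    (fun x : Subgroup.center (uni d) =>
      (⟨coB (x : uni d), fixed_coB ((mem_center_iff _).mp x.2)⟩ : {z : F // z ^ q = z}))
    ⟨fun x y h => Subtype.ext (uni_ext ?_ (congrArg Subtype.val h :)), ?_⟩) (card_fixed d.card)
  · rw [(mem_center_iff _).mp x.2, (mem_center_iff _).mp y.2]
  · rintro ⟨z, hz⟩
    exact ⟨⟨el d 0 z (cond_zero hz d), (mem_center_iff _).mpr rfl⟩, rfl⟩

/-- Scalars of the fixed field, acting on the group. -/
noncomputable def scalarHom (d : Data F q) :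
    (powMonoidHom (q - 1) : Fˣ →* Fˣ).ker →* MulAut (uni d) :=
  MonoidHom.mk' (fun u => liftAut d (u : Fˣ) 1) fun u v => MulEquiv.ext fun g => uni_ext
    (by simp [coA_liftAut, MulAut.mul_apply, mul_assoc])
    (by simp [coB_liftAut, MulAut.mul_apply, mul_pow, mul_assoc])

theorem ker_mem_fixed (u : (powMonoidHom (q - 1) : Fˣ →* Fˣ).ker) (hq : 0 < q) :
    ((u : Fˣ) : F) ^ q = ((u : Fˣ) : F) := by
  have h : (u : Fˣ) ^ (q - 1) = 1 := u.2
  obtain ⟨j, rfl⟩ : ∃ j, q = j + 1 := ⟨q - 1, by omega⟩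
  have h' := congrArg (fun v : Fˣ => (v : F)) h
  simp only [Units.val_pow_eq_pow_val, Units.val_one, Nat.add_sub_cancel] at h'
  rw [pow_succ, h', one_mul]

theorem scalar_coB (u : (powMonoidHom (q - 1) : Fˣ →* Fˣ).ker) (g : uni d) :
    coB (scalarHom d u g) = ((u : Fˣ) : F) * ((u : Fˣ) : F) * coB g := by
  change coB (liftAut d (u : Fˣ) 1 g) = _
  rw [coB_liftAut, pow_succ, ker_mem_fixed u d.q_pos]; rfl

theorem isSuzukiTwoGroup_uni {n : ℕ} (hn : 2 ≤ n) (d : Data F (2 ^ n)) :
    Cfsg.IsSuzukiTwoGroup (uni d) := by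
  set q := 2 ^ n with hqdef
  have h4 : 4 ≤ q := by
    rw [hqdef]
    calc 4 = 2 ^ 2 := rfl
      _ ≤ 2 ^ n := Nat.pow_le_pow_right (by omega) hn
  have central : ∀ x : uni d, x * x = 1 → coA x = 0 := fun x hx => by
    refine eq_zero_of_pow_eq_zero (n := q + 1) ?_
    rw [← (sq_eq x).2, hx, coB_one]
  refine ⟨inferInstance, IsPGroup.of_card (n := n * 3) (by rw [card_uni, ← pow_mul]), ?_, ?_, ?_⟩
  · obtain ⟨c, hc⟩ := exists_pol_eq d.card (one_ne_zero (α := F)) (show (1 : F) ^ q = 1 from one_pow q)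
    obtain ⟨g, hg⟩ := exists_coA d (1 : F)
    obtain ⟨k, hk⟩ := exists_coA d c
    refine ⟨g, k, fun e => ?_⟩
    rw [mul_comm_iff, hg, hk] at e
    simp only [pol] at hc
    rw [e, add_self_of_two d.two] at hc
    exact zero_ne_one hc
  · classical
    haveI : Fintype (Subgroup.center (uni d)) := Fintype.ofFinite _
    have hcard : 2 < Fintype.card (Subgroup.center (uni d)) := by
      rw [← Nat.card_eq_fintype_card, card_center_uni]; omega
    obtain ⟨a, b, c, hab, hac, hbc⟩ := Fintype.two_lt_card_iff.mp hcard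
    have hsq : ∀ x : Subgroup.center (uni d), (x : uni d) * x = 1 := fun x => uni_ext
      (by rw [(sq_eq _).1, coA_one])
      (by rw [(sq_eq _).2, (mem_center_iff _).mp x.2, zero_pow (by omega), coB_one])
    by_cases ha : (a : uni d) = 1
    · exact ⟨b, c, fun e => hbc (Subtype.ext e), fun e => hab (Subtype.ext (ha.trans e.symm)),
        hsq b, fun e => hac (Subtype.ext (ha.trans e.symm)), hsq c⟩
    · by_cases hb : (b : uni d) = 1
      · exact ⟨a, c, fun e => hac (Subtype.ext e), ha, hsq a,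
          fun e => hbc (Subtype.ext (hb.trans e.symm)), hsq c⟩
      · exact ⟨a, b, fun e => hab (Subtype.ext e), ha, hsq a, hb, hsq b⟩
  · refine ⟨(scalarHom d).range,
      isCyclic_of_surjective (scalarHom d).rangeRestrict (MonoidHom.rangeRestrict_surjective _), ?_⟩
    intro x y hx1 hx hy1 hy
    have hxA := central x hx
    have hyA := central y hy
    have hxB : coB x ≠ 0 := fun e => hx1 (uni_ext (by rw [hxA, coA_one]) (by rw [e, coB_one]))
    have hyB : coB y ≠ 0 := fun e => hy1 (uni_ext (by rw [hyA, coA_one]) (by rw [e, coB_one]))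
    have hxk := fixed_coB hxA
    have hyk := fixed_coB hyA
    obtain ⟨m, hm⟩ := exists_norm_eq d.card
      (show (coB y / coB x) ^ q = coB y / coB x by rw [div_pow, hyk, hxk])
    -- the square root inside the fixed field
    set s := (coB y / coB x) ^ (2 ^ (n - 1)) with hs
    have hs2 : s * s = coB y / coB x := by
      rw [hs, ← pow_add, ← two_mul, ← pow_succ', show n - 1 + 1 = n by omega]
      show (coB y / coB x) ^ q = coB y / coB x
      rw [div_pow, hyk, hxk]
    have hs0 : s ≠ 0 := pow_ne_zero _ (div_ne_zero hyB hxB)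
    have hsq' : s ^ q = s := by
      rw [hs, ← pow_mul, mul_comm, pow_mul, div_pow, hyk, hxk]
    have hker : Units.mk0 s hs0 ∈ (powMonoidHom (q - 1) : Fˣ →* Fˣ).ker := by
      rw [MonoidHom.mem_ker, powMonoidHom_apply]
      apply Units.ext
      apply mul_right_cancel₀ hs0
      rw [Units.val_pow_eq_pow_val, Units.val_mk0, ← pow_succ, show q - 1 + 1 = q by omega, hsq',
        Units.val_one, one_mul]
    refine ⟨⟨scalarHom d ⟨_, hker⟩, _, rfl⟩, ?_, ?_⟩
    · refine uni_ext ?_ ?_
      · rw [coA_zero_of_central _ hxA, hyA]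
      · rw [scalar_coB]
        change s * s * coB x = coB y
        rw [hs2, div_mul_cancel₀ _ hxB]
    · rintro ⟨_, u, rfl⟩ hu
      have h := congrArg coB (hu : scalarHom d u x = y)
      rw [scalar_coB] at h
      have hus : ((u : Fˣ) : F) = s := by
        refine eq_of_add_eq_zero_of_two d.two (mul_self_eq_zero.mp ?_)
        have he : ((u : Fˣ) : F) * ((u : Fˣ) : F) = s * s := by
          rw [hs2, eq_div_iff hxB, h]
        linear_combination he + (s * s + s * ((u : Fˣ) : F)) * d.two
      have : u = ⟨_, hker⟩ := Subtype.ext (Units.ext hus)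
      subst this
      rfl

end CfsgLib.UnitaryThree
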